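import Mathlib
import Cfsg.Agent.Lib.Helper8.PG.Defs

set_option autoImplicit false

/-! Project PG (S2474): package [ARITH2]. -/

namespace Cfsg.Agent.Lib.Helper73.PG

open Cfsg.Agent.Lib.Helper8.PG

theorem pkgArith2 : PkgArith2 := by
  intro q s k n A hs hs2 hsq hqodd hk hEta hA hnA hAiff
  have : Fact s.Prime := ⟨hs⟩
  -- the element `x = q` of the field `ZMod s`
  set x : ZMod s := (q : ZMod s) with hx
  have hx0 : x ≠ 0 := by
    rw [hx, Ne, ZMod.natCast_eq_zero_iff]
    exact hsq
  have h2ne : (2 : ZMod s) ≠ 0 := by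
    intro h
    have h' : ((2 : ℕ) : ZMod s) = 0 := by exact_mod_cast h
    rw [ZMod.natCast_eq_zero_iff] at h'
    have := (Nat.prime_dvd_prime_iff_eq hs Nat.prime_two).mp h'
    exact hs2 this
  have hkpos : 0 < k := by
    rw [hk]
    exact orderOf_pos_iff.mpr (isOfFinOrder_iff_pow_eq_one.mpr
      ⟨s - 1, by have := hs.two_le; omega, ZMod.pow_card_sub_one_eq_one hx0⟩)
  have hxk : x ^ k = 1 := by rw [hk]; exact pow_orderOf_eq_one x
  have castA : A → x ^ (2 * n) + x ^ n = 2 := by
    intro ha
    have h := (ZMod.intCast_eq_intCast_iff _ _ _).mpr (hA ha)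
    push_cast at h
    exact h
  have castnA : ¬ A → x ^ (2 * n) - x ^ n = 2 := by
    intro ha
    have h := (ZMod.intCast_eq_intCast_iff _ _ _).mpr (hnA ha)
    push_cast at h
    exact h
  rcases hEta with ⟨hkodd, hnk⟩ | ⟨hkeven, hnk⟩
  · -- `k` odd, `n = k`
    subst hnk
    left
    have hA' : A := by
      by_contra hna
      have h := castnA hna
      have e : x ^ (2 * n) = 1 := by rw [mul_comm, pow_mul, hxk, one_pow]
      rw [e, hxk, sub_self] at h
      exact h2ne h.symm
    rcases hAiff.mp hA' with he | h1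
    · exact absurd he (Nat.not_even_iff_odd.mpr hkodd)
    · exact ⟨h1, hkodd⟩
  · -- `k` even, `2 n = k`
    right
    have hnpos : 0 < n := by omega
    have hsq1 : x ^ n * x ^ n = 1 := by
      rw [← pow_add, ← two_mul, hnk, hxk]
    have hne1 : x ^ n ≠ 1 := by
      intro h1
      have hdvd : k ∣ n := by rw [hk]; exact orderOf_dvd_of_pow_eq_one h1
      have := Nat.le_of_dvd hnpos hdvd
      omega
    have hm1 : x ^ n = -1 := by
      rcases mul_self_eq_one_iff.mp hsq1 with h | h
      · exact absurd h hne1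
      · exact h
    have hnA' : ¬ A := by
      intro ha
      have h := castA ha
      have e : x ^ (2 * n) = 1 := by rw [hnk, hxk]
      rw [e, hm1, add_neg_cancel] at h
      exact h2ne h.symm
    have hnot : ¬ (Even n ∨ q % 4 = 1) := fun h => hnA' (hAiff.mpr h)
    obtain ⟨hne, hq1⟩ := not_or.mp hnot
    have hnodd : Odd n := Nat.not_even_iff_odd.mp hne
    obtain ⟨m, hm⟩ := hqodd
    refine ⟨by omega, hkeven, hnodd⟩

end Cfsg.Agent.Lib.Helper73.PG
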