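import Mathlib
import Cfsg.Agent.Lib.Helper8.PG.Defs
import Cfsg.Agent.Lib.Helper4.OCls.Zeros

set_option autoImplicit false

/-! Project PG (S2474): package [LEVEL], the number of points on a non-zero level set of the
odd-dimensional form. -/

namespace Cfsg.Agent.Lib.Helper73.PG

open Cfsg.Agent.Lib.Helper8.PG

universe u

/-- The number of solutions of `quadFormPlus n w = a`. -/
noncomputable def lev (n : ℕ) (F : Type u) [Field F] (a : F) : ℕ :=
  Nat.card {w : Fin n ⊕ Fin n → F // Cfsg.quadFormPlus n F w = a}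

theorem lev_scale (n : ℕ) (F : Type u) [Field F] (a : F) (ha : a ≠ 0) :
    lev n F a = lev n F 1 := by
  unfold lev
  apply Nat.card_congr
  refine
    { toFun := fun w => ⟨Sum.elim (fun i => a⁻¹ * w.1 (Sum.inl i)) (fun i => w.1 (Sum.inr i)), ?_⟩
      invFun := fun w => ⟨Sum.elim (fun i => a * w.1 (Sum.inl i)) (fun i => w.1 (Sum.inr i)), ?_⟩
      left_inv := ?_
      right_inv := ?_ }
  · have h := w.2
    unfold Cfsg.quadFormPlus at h ⊢
    simp only [Sum.elim_inl, Sum.elim_inr, mul_assoc]
    rw [← Finset.mul_sum, h, inv_mul_cancel₀ ha]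
  · have h := w.2
    unfold Cfsg.quadFormPlus at h ⊢
    simp only [Sum.elim_inl, Sum.elim_inr, mul_assoc]
    rw [← Finset.mul_sum, h, mul_one]
  · intro w
    apply Subtype.ext
    funext j
    rcases j with i | i
    · simp [mul_inv_cancel_left₀ ha]
    · simp
  · intro w
    apply Subtype.ext
    funext j
    rcases j with i | i
    · simp [inv_mul_cancel_left₀ ha]
    · simp

theorem sum_lev (n : ℕ) (F : Type u) [Field F] [Fintype F] :
    ∑ a : F, lev n F a = Fintype.card F ^ (2 * n) := by
  classical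
  have e : (Σ a : F, {w : Fin n ⊕ Fin n → F // Cfsg.quadFormPlus n F w = a}) ≃
      (Fin n ⊕ Fin n → F) := Equiv.sigmaFiberEquiv (Cfsg.quadFormPlus n F)
  have h1 := Nat.card_congr e
  rw [Nat.card_sigma] at h1
  unfold lev
  rw [h1, Nat.card_eq_fintype_card, Fintype.card_fun, Fintype.card_sum, Fintype.card_fin,
    two_mul]

theorem card_level (n : ℕ) (F : Type u) [Field F] [Fintype F] (c : F) :
    Nat.card {v : OI n → F // Cfsg.quadFormOdd n F v = c} = ∑ x : F, lev n F (c - x ^ 2) := by
  classical
  have e : {v : OI n → F // Cfsg.quadFormOdd n F v = c} ≃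
      (Σ x : F, {w : Fin n ⊕ Fin n → F // Cfsg.quadFormPlus n F w = c - x ^ 2}) :=
    { toFun := fun v => ⟨v.1 (Sum.inl ()), ⟨fun j => v.1 (Sum.inr j), by
        have h := v.2
        unfold Cfsg.quadFormOdd at h
        unfold Cfsg.quadFormPlus
        exact eq_sub_of_add_eq' h⟩⟩
      invFun := fun y => ⟨Sum.elim (fun _ => y.1) y.2.1, by
        have h := y.2.2
        unfold Cfsg.quadFormPlus at h
        unfold Cfsg.quadFormOdd
        simp only [Sum.elim_inl, Sum.elim_inr]
        rw [h]; ring⟩
      left_inv := by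
        intro v
        apply Subtype.ext
        funext j
        rcases j with u | j
        · rfl
        · rfl
      right_inv := by
        intro y
        rfl }
  rw [Nat.card_congr e, Nat.card_sigma]
  rfl

theorem two_ne_zero_of_odd (F : Type u) [Field F] [Fintype F] (h : Odd (Fintype.card F)) :
    (2 : F) ≠ 0 := by
  apply Ring.two_ne_zero
  intro h2
  have h0 := FiniteField.even_card_of_char_two h2
  obtain ⟨m, hm⟩ := h
  omega

theorem card_sqrt_of_isSquare (F : Type u) [Field F] [Fintype F] [DecidableEq F]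
    (h2 : (2 : F) ≠ 0) (c : F) (hc : c ≠ 0) (hsq : IsSquare c) :
    (Finset.univ.filter (fun x : F => c - x ^ 2 = 0)).card = 2 := by
  obtain ⟨r, hr⟩ := hsq
  have hr0 : r ≠ 0 := by
    rintro rfl
    exact hc (by rw [hr, mul_zero])
  have hne : r ≠ -r := by
    intro h
    have h' : (2 : F) * r = 0 := by
      rw [two_mul]
      nth_rewrite 1 [h]
      exact neg_add_cancel r
    rcases mul_eq_zero.mp h' with h'' | h''
    · exact h2 h''
    · exact hr0 h''
  have hset : Finset.univ.filter (fun x : F => c - x ^ 2 = 0) = {r, -r} := by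
    ext x
    simp only [Finset.mem_filter, Finset.mem_univ, true_and, Finset.mem_insert,
      Finset.mem_singleton]
    constructor
    · intro h
      have h' : (x - r) * (x + r) = 0 := by
        rw [hr] at h
        linear_combination -h
      rcases mul_eq_zero.mp h' with h'' | h''
      · left; exact sub_eq_zero.mp h''
      · right; exact eq_neg_of_add_eq_zero_left h''
    · rintro (rfl | rfl)
      · rw [hr]; ring
      · rw [hr]; ring
  rw [hset, Finset.card_pair hne]

theorem card_sqrt_of_not_isSquare (F : Type u) [Field F] [Fintype F] [DecidableEq F]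
    (c : F) (hsq : ¬ IsSquare c) :
    (Finset.univ.filter (fun x : F => c - x ^ 2 = 0)).card = 0 := by
  rw [Finset.card_eq_zero, Finset.filter_eq_empty_iff]
  intro x _ h
  exact hsq ⟨x, by rw [← pow_two]; exact sub_eq_zero.mp h⟩

theorem pkgLevel : PkgLevel.{u} := by
  intro F _ _ hodd n c hc
  classical
  have h2 : (2 : F) ≠ 0 := two_ne_zero_of_odd F hodd
  set q : ℕ := Fintype.card F with hq
  have hq1 : 1 < q := Fintype.one_lt_card
  -- the zeros of the plus form
  have hZ := Cfsg.Agent.Lib.Helper4.OCls.pkgZerosPlus (F := F) n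
  rw [← hq] at hZ
  change (q : ℤ) * ((lev n F 0 : ℕ) : ℤ) = _ at hZ
  -- the total count
  have hsum := sum_lev n F
  rw [← hq] at hsum
  have hsplit : ∑ a : F, lev n F a = lev n F 0 + (q - 1) * lev n F 1 := by
    rw [← Finset.add_sum_erase Finset.univ _ (Finset.mem_univ (0 : F))]
    congr 1
    rw [Finset.sum_congr rfl (fun a ha => lev_scale n F a (Finset.ne_of_mem_erase ha)),
      Finset.sum_const, smul_eq_mul, Finset.card_erase_of_mem (Finset.mem_univ _),
      Finset.card_univ]
  rw [hsplit] at hsum
  -- the level set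
  have hN := card_level n F c
  have hNsplit : ∑ x : F, lev n F (c - x ^ 2) =
      (Finset.univ.filter (fun x : F => c - x ^ 2 = 0)).card * lev n F 0 +
        (Finset.univ.filter (fun x : F => ¬ c - x ^ 2 = 0)).card * lev n F 1 := by
    rw [← Finset.sum_filter_add_sum_filter_not Finset.univ (fun x : F => c - x ^ 2 = 0)]
    congr 1
    · rw [Finset.sum_congr rfl (fun x hx => by rw [(Finset.mem_filter.mp hx).2]),
        Finset.sum_const, smul_eq_mul]
    · rw [Finset.sum_congr rfl (fun x hx => lev_scale n F _ (Finset.mem_filter.mp hx).2),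
        Finset.sum_const, smul_eq_mul]
  have hcards : (Finset.univ.filter (fun x : F => c - x ^ 2 = 0)).card +
      (Finset.univ.filter (fun x : F => ¬ c - x ^ 2 = 0)).card = q := by
    rw [Finset.card_filter_add_card_filter_not, Finset.card_univ]
  rw [hNsplit] at hN
  -- integer arithmetic
  set Z : ℤ := ((lev n F 0 : ℕ) : ℤ) with hZdef
  set L : ℤ := ((lev n F 1 : ℕ) : ℤ) with hLdef
  set A : ℤ := (q : ℤ) ^ (2 * n) with hA
  set B : ℤ := (q : ℤ) ^ n with hB
  have hq1' : (1 : ℤ) < q := by exact_mod_cast hq1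
  have hqq : ((q - 1 : ℕ) : ℤ) = (q : ℤ) - 1 := by
    rw [Nat.cast_sub hq1.le]; simp
  have h1 : (q : ℤ) * Z = A + ((q : ℤ) * B - B) := by
    rw [hZ, hA, hB, pow_succ]; ring
  have h2' : Z + ((q : ℤ) - 1) * L = A := by
    have := congrArg (fun m : ℕ => (m : ℤ)) hsum
    simp only [Nat.cast_add, Nat.cast_mul, Nat.cast_pow, hqq] at this
    exact this
  have h4 : (q : ℤ) * L = A - B := by
    have hne : (q : ℤ) - 1 ≠ 0 := by omega
    apply mul_left_cancel₀ hne
    linear_combination (q : ℤ) * h2' - h1
  have hq0 : (q : ℤ) ≠ 0 := by omega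
  constructor
  · intro hsq
    have hs := card_sqrt_of_isSquare F h2 c hc hsq
    rw [hs] at hN hcards
    have hs' : ((Finset.univ.filter (fun x : F => ¬ c - x ^ 2 = 0)).card : ℤ) = (q : ℤ) - 2 := by
      have := congrArg (fun m : ℕ => (m : ℤ)) hcards
      simp only [Nat.cast_add, Nat.cast_ofNat] at this
      linarith
    have hN' : (Nat.card {v : OI n → F // Cfsg.quadFormOdd n F v = c} : ℤ) =
        2 * Z + ((q : ℤ) - 2) * L := by
      rw [hN]; push_cast; rw [hs']
    rw [hN']
    apply mul_left_cancel₀ hq0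
    linear_combination 2 * h1 + ((q : ℤ) - 2) * h4
  · intro hsq
    have hs := card_sqrt_of_not_isSquare F c hsq
    rw [hs] at hN hcards
    have hs' : ((Finset.univ.filter (fun x : F => ¬ c - x ^ 2 = 0)).card : ℤ) = (q : ℤ) := by
      have := congrArg (fun m : ℕ => (m : ℤ)) hcards
      simpa using this
    have hN' : (Nat.card {v : OI n → F // Cfsg.quadFormOdd n F v = c} : ℤ) = (q : ℤ) * L := by
      rw [hN]; push_cast; rw [hs']; ring
    rw [hN']
    exact h4

end Cfsg.Agent.Lib.Helper73.PG
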