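import Mathlib
import Cfsg.Agent.Lib.Helper8.PG.Defs

set_option autoImplicit false

/-! Project PG (S2474): package [SQSIGN]. -/

namespace Cfsg.Agent.Lib.Helper73.PG

open Cfsg.Agent.Lib.Helper8.PG

universe u

theorem pkgSqSign : PkgSqSign.{u} := by
  intro F _ _ hodd n c hc
  classical
  have hc2 : ringChar F ≠ 2 := by
    intro h
    have h0 := FiniteField.even_card_of_char_two h
    obtain ⟨m, hm⟩ := hodd
    omega
  have hsq : ∀ a : F, a ≠ 0 → (IsSquare a ↔ quadraticChar F a = 1) :=
    fun a ha => (quadraticChar_one_iff_isSquare ha).symm
  have hmod : Fintype.card F % 4 = 1 ∨ Fintype.card F % 4 = 3 := by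
    obtain ⟨m, hm⟩ := hodd
    omega
  have hneg1 : IsSquare (-1 : F) ↔ Fintype.card F % 4 ≠ 3 := FiniteField.isSquare_neg_one_iff
  rcases Nat.even_or_odd n with hn | hn
  · rw [hn.neg_one_pow, one_mul]
    constructor
    · intro h
      exact ⟨fun _ => Or.inl hn, fun _ => h⟩
    · intro h
      exact h.mpr (Or.inl hn)
  · rw [hn.neg_one_pow, neg_one_mul]
    have hnc : -c ≠ 0 := neg_ne_zero.mpr hc
    have hne : ¬ Even n := Nat.not_even_iff_odd.mpr hn
    have hmul : quadraticChar F (-c) = quadraticChar F (-1) * quadraticChar F c := by
      rw [← map_mul, neg_one_mul]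
    rcases hmod with h1 | h3
    · have hm1 : quadraticChar F (-1) = 1 := by
        rw [← hsq (-1) (by simp)]
        rw [hneg1]; omega
      rw [hsq (-c) hnc, hmul, hm1, one_mul, ← hsq c hc]
      constructor
      · intro h
        exact ⟨fun _ => Or.inr h1, fun _ => h⟩
      · intro h
        exact h.mpr (Or.inr h1)
    · have hm1 : quadraticChar F (-1) = -1 := by
        rw [quadraticChar_neg_one_iff_not_isSquare, hneg1]
        omega
      have hcc : quadraticChar F c = 1 ∨ quadraticChar F c = -1 :=
        quadraticChar_dichotomy hc
      rw [hsq (-c) hnc, hmul, hm1, hsq c hc]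
      constructor
      · intro h
        have hcm : quadraticChar F c = -1 := by
          rcases hcc with h' | h'
          · rw [h'] at h; norm_num at h
          · exact h'
        constructor
        · intro h'
          rw [h'] at hcm; norm_num at hcm
        · rintro (h' | h')
          · exact absurd h' hne
          · omega
      · intro h
        have hcn : quadraticChar F c ≠ 1 := by
          intro h'
          rcases h.mp h' with h'' | h''
          · exact hne h''
          · omega
        rcases hcc with h' | h'
        · exact absurd h' hcn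
        · rw [h']; norm_num

end Cfsg.Agent.Lib.Helper73.PG
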